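import Mathlib
import Cfsg.Prelude.Def_LocalEven
import Cfsg.Agent.Lib.PSolvable.Core
import Cfsg.Agent.Lib.Transfer.PResidual
import Cfsg.Agent.Lib.PGroup.ElemAbelian
import Cfsg.Agent.Lib.Coprime.Basic
import Cfsg.Agent.Lib.CharP.Basic

/-!
# p-reduced normal subgroups
-/

set_option autoImplicit false

namespace Cfsg.Agent.Lib.PReduced

open Cfsg Subgroup Cfsg.Agent.Lib
open scoped commutatorElement

variable {L : Type*} [Group L] {p : ℕ}

/-- Every element of `N` has a `p`-power in `C` (for `C` normal: `N C / C` is a `p`-group). -/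
def PMod (p : ℕ) (N C : Subgroup L) : Prop := ∀ g ∈ N, ∃ k : ℕ, g ^ p ^ k ∈ C

theorem PMod.mono {N N' C C' : Subgroup L} (h : PMod p N C) (hN : N' ≤ N) (hC : C ≤ C') :
    PMod p N' C' := fun g hg => (h g (hN hg)).imp fun _ hk => hC hk

theorem PMod.of_isPGroup {N : Subgroup L} (h : IsPGroup p N) (C : Subgroup L) : PMod p N C := by
  intro g hg
  obtain ⟨k, hk⟩ := h ⟨g, hg⟩
  have hk' : g ^ p ^ k = 1 := congrArg Subtype.val hk
  exact ⟨k, hk'.symm ▸ C.one_mem⟩

theorem pMod_iff_map {N C : Subgroup L} [C.Normal] :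
    PMod p N C ↔ IsPGroup p (N.map (QuotientGroup.mk' C)) := by
  constructor
  · rintro h ⟨_, g, hg, rfl⟩
    obtain ⟨k, hk⟩ := h g hg
    refine ⟨k, Subtype.ext ?_⟩
    show (QuotientGroup.mk' C g) ^ p ^ k = 1
    rw [← map_pow]
    exact (QuotientGroup.eq_one_iff _).2 hk
  · intro h g hg
    obtain ⟨k, hk⟩ := h ⟨_, g, hg, rfl⟩
    refine ⟨k, (QuotientGroup.eq_one_iff _).1 ?_⟩
    have hk' : (QuotientGroup.mk' C g) ^ p ^ k = 1 := congrArg Subtype.val hk
    rwa [← map_pow] at hk'

/-- The characterisation of `p`-reduced normal subgroups used in practice. -/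
theorem isPReducedNormal_iff {V : Subgroup L} :
    IsPReducedNormal p V ↔ V.Normal ∧ IsElementaryAbelian p V ∧
      ∀ N : Subgroup L, N.Normal → PMod p N (centralizer (V : Set L)) →
        N ≤ centralizer (V : Set L) := by
  constructor
  · rintro ⟨hV, hE, hC, hp⟩
    refine ⟨hV, hE, fun N hN hm g hg => ?_⟩
    have h1 : N.map (QuotientGroup.mk' (centralizer (V : Set L))) ≤
        pCore p (L ⧸ centralizer (V : Set L)) :=
      PSolvable.le_pCore (hN := hN.map _ (QuotientGroup.mk'_surjective _)) (pMod_iff_map.1 hm)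
    rw [hp] at h1
    exact (QuotientGroup.eq_one_iff g).1 (mem_bot.1 (h1 ⟨g, hg, rfl⟩))
  · rintro ⟨hV, hE, h⟩
    haveI := hV
    refine ⟨hV, hE, inferInstance, PSolvable.eq_bot_of_comap_mk'_le _ (h _ inferInstance ?_)⟩
    rw [pMod_iff_map, map_comap_eq_self_of_surjective (QuotientGroup.mk'_surjective _)]
    exact PSolvable.pCore_isPGroup

theorem pCore_le_centralizer {V : Subgroup L} (h : IsPReducedNormal p V) :
    pCore p L ≤ centralizer (V : Set L) :=
  (isPReducedNormal_iff.1 h).2.2 _ inferInstance (.of_isPGroup PSolvable.pCore_isPGroup _)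

theorem le_pCore {V : Subgroup L} (h : IsPReducedNormal p V) : V ≤ pCore p L :=
  PSolvable.le_pCore (hN := h.1) (ElemAbelian.isPGroup h.2.1)

theorem commute_of_isPReducedNormal {V W : Subgroup L} (hV : IsPReducedNormal p V)
    (hW : IsPReducedNormal p W) {a b : L} (ha : a ∈ V) (hb : b ∈ W) : a * b = b * a :=
  (mem_centralizer_iff.1 (pCore_le_centralizer hV (le_pCore hW hb)) a ha)

/-- The join of all `p`-reduced normal subgroups is the largest one. -/
theorem exists_largest (p : ℕ) (L : Type*) [Group L] :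
    ∃ Y : Subgroup L, IsPReducedNormal p Y ∧ ∀ V : Subgroup L, IsPReducedNormal p V → V ≤ Y := by
  let S : Set (Subgroup L) := {V | IsPReducedNormal p V}
  refine ⟨sSup S, isPReducedNormal_iff.2 ⟨sSup_normal _ fun V hV => hV.1, ?_, ?_⟩,
    fun V hV => le_sSup hV⟩
  · rw [sSup_eq_iSup']
    exact ElemAbelian.iSup (fun V => V.2.2.1)
      (fun V W a ha b hb => commute_of_isPReducedNormal V.2 W.2 ha hb)
  · intro N hN hm
    rw [le_centralizer_iff]
    refine sSup_le fun V hV => ?_
    rw [le_centralizer_iff]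
    exact (isPReducedNormal_iff.1 hV).2.2 N hN
      (hm.mono le_rfl (centralizer_le (le_sSup hV)))

/-- If `C ≤ N` are normal, `N / C` is a `p`-group and `T` is Sylow, then `N ≤ C (T ∩ N)`. -/
theorem exists_mul_of_pMod [Finite L] [Fact p.Prime] (T : Sylow p L) {N C : Subgroup L}
    [N.Normal] [C.Normal] (hCN : C ≤ N) (hm : PMod p N C) {g : L} (hg : g ∈ N) :
    ∃ c ∈ C, ∃ t ∈ (T : Subgroup L) ⊓ N, g = c * t := by
  let T' : Sylow p (L ⧸ C) := T.mapSurjective (QuotientGroup.mk'_surjective C)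
  haveI : (N.map (QuotientGroup.mk' C)).Normal :=
    Subgroup.Normal.map inferInstance _ (QuotientGroup.mk'_surjective C)
  have h1 := (pMod_iff_map.1 hm).le_sylow_of_normal T'
  obtain ⟨t, ht, htg⟩ := h1 ⟨g, hg, rfl⟩
  have hC : g * t⁻¹ ∈ C := by
    rw [← QuotientGroup.eq_one_iff]
    have e : (QuotientGroup.mk' C t) = QuotientGroup.mk' C g := htg
    show QuotientGroup.mk' C (g * t⁻¹) = 1
    rw [map_mul, map_inv, ← e, mul_inv_cancel]
  refine ⟨g * t⁻¹, hC, t, ⟨ht, ?_⟩, by group⟩
  have := N.mul_mem (N.inv_mem (hCN hC)) hg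
  simpa using this

/-- The normal closure of a `p`-reduced normal subgroup of an overgroup of a Sylow subgroup. -/
theorem isPReducedNormal_normalClosure [Finite L] [Fact p.Prime]
    (hchar : centralizer (pCore p L : Set L) ≤ pCore p L) (T : Sylow p L) (R : Subgroup L)
    (hTR : (T : Subgroup L) ≤ R) (X : Subgroup R) (hX : IsPReducedNormal p X) :
    IsPReducedNormal p (normalClosure ((X.map R.subtype : Subgroup L) : Set L)) := by
  set Q := pCore p L
  obtain ⟨hXn, hXe, hXr⟩ := isPReducedNormal_iff.1 hX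
  set X' : Subgroup L := X.map R.subtype with hX'
  have hQR : Q ≤ R := (PSolvable.pCore_le_sylow T).trans hTR
  have hQc : Q ≤ centralizer (X' : Set L) := by
    intro q hq
    have hqc : (⟨q, hQR hq⟩ : R) ∈ centralizer (X : Set R) :=
      hXr (Q.subgroupOf R) inferInstance
        (.of_isPGroup (PSolvable.pCore_isPGroup.comap_subtype) _) hq
    rintro _ ⟨x, hx, rfl⟩
    exact congrArg Subtype.val (hqc x hx)
  have hXZ : X' ≤ Q ⊓ centralizer (Q : Set L) :=
    le_inf ((le_centralizer_iff.1 hQc).trans hchar) (le_centralizer_iff.1 hQc)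
  set Y := normalClosure (X' : Set L) with hY
  have hYZ : Y ≤ Q ⊓ centralizer (Q : Set L) := normalClosure_le_normal hXZ
  have hYc : ∀ a ∈ Y, ∀ b ∈ Y, a * b = b * a := fun a ha b hb =>
    ((hYZ hb).2 a (hYZ ha).1)
  have hYe : IsElementaryAbelian p Y := by
    refine ElemAbelian.closure (fun a ha b hb => hYc a (subset_closure ha) b (subset_closure hb)) ?_
    rintro a ha
    obtain ⟨x, ⟨x', hx', rfl⟩, hxa⟩ := Group.mem_conjugatesOfSet_iff.1 ha
    obtain ⟨c, rfl⟩ := isConj_iff.1 hxa
    rw [conj_pow, ← map_pow, hXe.2 _ hx', map_one, mul_one, mul_inv_cancel]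
  refine isPReducedNormal_iff.2 ⟨normalClosure_normal, hYe, fun N hN hm => ?_⟩
  haveI := hN
  haveI : Y.Normal := normalClosure_normal
  set C := centralizer (Y : Set L)
  have hCX : C ≤ centralizer (X' : Set L) := centralizer_le subset_normalClosure
  have hmX : PMod p ((N ⊔ C).subgroupOf R) (centralizer (X : Set R)) := by
    intro g hg
    have hNC : PMod p (N ⊔ C) C := by
      rw [pMod_iff_map, Subgroup.map_sup, QuotientGroup.map_mk'_self, sup_bot_eq]
      exact pMod_iff_map.1 hm
    obtain ⟨k, hk⟩ := hNC g hg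
    refine ⟨k, fun x hx => Subtype.ext ?_⟩
    exact hCX hk (x : L) ⟨x, hx, rfl⟩
  have hle := hXr _ inferInstance hmX
  have hmN : PMod p (N ⊔ C) C := by
    rw [pMod_iff_map, Subgroup.map_sup, QuotientGroup.map_mk'_self, sup_bot_eq]
    exact pMod_iff_map.1 hm
  have hNX : N ≤ centralizer (X' : Set L) := by
    intro g hg
    obtain ⟨c, hc, t, ht, rfl⟩ :=
      exists_mul_of_pMod T (le_sup_right : C ≤ N ⊔ C) hmN ((le_sup_left : N ≤ N ⊔ C) hg)
    refine mul_mem (hCX hc) ?_
    have htc : (⟨t, hTR ht.1⟩ : R) ∈ centralizer (X : Set R) := hle ht.2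
    rintro _ ⟨x, hx, rfl⟩
    exact congrArg Subtype.val (htc x hx)
  exact le_centralizer_iff.2 (normalClosure_le_normal (N := centralizer (N : Set L))
    (le_centralizer_iff.1 hNX))

/-! ### `[V, O^p(K)]` -/

theorem commutator_closure_le {V W : Subgroup L} (s : Set L)
    (hs : ∀ g ∈ s, ∀ v ∈ V, ⁅v, g⁆ ∈ W) (hn : s ⊆ normalizer (W : Set L)) :
    ⁅V, closure s⁆ ≤ W := by
  rw [commutator_le]
  intro v hv g hg
  induction hg using closure_induction with
  | mem x hx => exact hs x hx v hv
  | one => simp [commutatorElement_def]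
  | mul a b ha _ iha ihb =>
    have e : ⁅v, a * b⁆ = ⁅v, a⁆ * (a * ⁅v, b⁆ * a⁻¹) := by
      simp [commutatorElement_def, mul_assoc]
    rw [e]
    exact mul_mem iha ((mem_normalizer_iff.1 ((closure_le _).2 hn ha) _).1 ihb)
  | inv a ha iha =>
    have e : ⁅v, a⁻¹⁆ = a⁻¹ * ⁅v, a⁆⁻¹ * a := by simp [commutatorElement_def, mul_assoc]
    rw [e]
    exact (mem_normalizer_iff''.1 ((closure_le _).2 hn ha) _).1 (inv_mem iha)

/-- Coprime action: an element of order prime to `p` centralizing `[V, x]` centralizes `V`. -/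
theorem commute_of_coprime_of_commutator [Finite L] [Fact p.Prime] {V : Subgroup L}
    (hV : IsPGroup p V) [V.Normal] {x : L} (hx : (orderOf x).Coprime p)
    (h : ∀ v ∈ V, Commute x (⁅v, x⁆)) {v : L} (hv : v ∈ V) : Commute v x := by
  have hc : v * x * v⁻¹ * x⁻¹ = ⁅v, x⁆ := (commutatorElement_def v x).symm
  refine Coprime.commute_of_commute_commutator (hc ▸ (h v hv).symm) ?_
  refine CharP.coprime_orderOf_of_mem hV hx ?_
  have h2 : x * v⁻¹ * x⁻¹ ∈ V := Normal.conj_mem inferInstance _ (inv_mem hv) x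
  simpa [mul_assoc] using mul_mem hv h2

theorem coprime_conj {G : Type*} [Group G] {x g : G} (hx : (orderOf x).Coprime p) :
    (orderOf (g * x * g⁻¹)).Coprime p := by
  rwa [← MulAut.conj_apply, (MulAut.conj g).orderOf_eq]

/-- The image in `L` of `O^p(K)`. -/
theorem map_pResidual_eq (K : Subgroup L) :
    (pResidual p K).map K.subtype = closure {x : L | x ∈ K ∧ (orderOf x).Coprime p} := by
  rw [pResidual, MonoidHom.map_closure]
  congr 1
  ext x
  constructor
  · rintro ⟨y, hy, rfl⟩
    exact ⟨y.2, by simpa [orderOf_coe] using hy⟩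
  · rintro ⟨hxK, hx⟩
    exact ⟨⟨x, hxK⟩, by simpa [orderOf_mk] using hx, rfl⟩

theorem normal_map_pResidual (K : Subgroup L) [K.Normal] :
    ((pResidual p K).map K.subtype).Normal := by
  rw [map_pResidual_eq]
  refine ⟨fun n hn g => ?_⟩
  induction hn using closure_induction with
  | mem x hx => exact subset_closure ⟨Normal.conj_mem inferInstance x hx.1 g, coprime_conj hx.2⟩
  | one => simp
  | mul a b _ _ iha ihb =>
    have e : g * (a * b) * g⁻¹ = (g * a * g⁻¹) * (g * b * g⁻¹) := by group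
    rw [e]; exact mul_mem iha ihb
  | inv a _ iha =>
    have e : g * a⁻¹ * g⁻¹ = (g * a * g⁻¹)⁻¹ := by group
    rw [e]; exact inv_mem iha

/-- The normal case. -/
theorem isPReducedNormal_commutator_of_normal [Finite L] [Fact p.Prime] {V : Subgroup L}
    (hV : IsPReducedNormal p V) (K : Subgroup L) [K.Normal] :
    ⁅V, (pResidual p K).map K.subtype⁆ ≤ K ∧
      IsPReducedNormal p ((⁅V, (pResidual p K).map K.subtype⁆).subgroupOf K) := by
  haveI := hV.1
  haveI := normal_map_pResidual (p := p) K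
  set R := (pResidual p K).map K.subtype with hR
  set U := ⁅V, R⁆ with hU
  have hUK : U ≤ K := (commutator_le_right V R).trans (map_subtype_le _)
  have hUV : U ≤ V := commutator_le_left V R
  haveI : U.Normal := commutator_normal V R
  refine ⟨hUK, isPReducedNormal_iff.2
    ⟨inferInstance, ElemAbelian.subgroupOf (ElemAbelian.mono hV.2.1 hUV) K, fun N hN hm => ?_⟩⟩
  haveI := hN
  set D : Subgroup L := K ⊓ centralizer (U : Set L) with hD
  -- the largest normal subgroup of `K` which is a p-group modulo `D`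
  haveI : (D.subgroupOf K).Normal := inferInstance
  set P : Subgroup K := (pCore p (K ⧸ D.subgroupOf K)).comap (QuotientGroup.mk' _) with hP
  have hPm : PMod p P (D.subgroupOf K) := by
    rw [pMod_iff_map, map_comap_eq_self_of_surjective (QuotientGroup.mk'_surjective _)]
    exact PSolvable.pCore_isPGroup
  have hcD : centralizer ((U.subgroupOf K : Subgroup K) : Set K) = D.subgroupOf K := by
    ext k
    simp only [mem_subgroupOf, hD, mem_inf, SetLike.coe_mem, true_and, mem_centralizer_iff]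
    constructor
    · intro h u hu
      exact congrArg Subtype.val (h ⟨u, hUK hu⟩ hu)
    · intro h u hu
      exact Subtype.ext (h (u : L) hu)
  rw [hcD] at hm ⊢
  have hNP : N ≤ P := map_le_iff_le_comap.1
    (PSolvable.le_pCore (hN := hN.map _ (QuotientGroup.mk'_surjective _)) (pMod_iff_map.1 hm))
  refine hNP.trans fun x hx => ?_
  -- `P` is normal in `L`
  set P' := P.map K.subtype with hP'
  have hP'n : P'.Normal := by
    refine ⟨fun n hn g => ?_⟩
    obtain ⟨k, hk, rfl⟩ := hn
    let φ : K ≃* K := MulAut.conjNormal g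
    have hφD : (D.subgroupOf K).map φ.toMonoidHom = D.subgroupOf K := by
      ext y
      constructor
      · rintro ⟨z, hz, rfl⟩
        exact Normal.conj_mem (inferInstance : D.Normal) _ hz g
      · intro hy
        refine ⟨φ.symm y, ?_, φ.apply_symm_apply y⟩
        show (((MulAut.conjNormal g).symm y : K) : L) ∈ D
        rw [MulAut.conjNormal_symm_apply]
        simpa using Normal.conj_mem (inferInstance : D.Normal) _ hy g⁻¹
    let e : K ⧸ D.subgroupOf K ≃* K ⧸ D.subgroupOf K := QuotientGroup.congr _ _ φ hφD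
    have hmem : e (QuotientGroup.mk' _ k) ∈ pCore p (K ⧸ D.subgroupOf K) := by
      rw [← PSolvable.map_pCore_equiv e]
      exact ⟨_, hk, rfl⟩
    exact ⟨φ k, hmem, rfl⟩
  have hPV : PMod p P' (centralizer (V : Set L)) := by
    rintro _ ⟨k, hk, rfl⟩
    obtain ⟨j, hj⟩ := hPm k hk
    obtain ⟨i, hi⟩ := Transfer.exists_pow_coprime (p := p) ((k : L) ^ p ^ j)
    refine ⟨j + i, ?_⟩
    have he : (K.subtype k) ^ p ^ (j + i) = ((k : L) ^ p ^ j) ^ p ^ i := by
      rw [← pow_mul, ← pow_add]; rfl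
    rw [he, mem_centralizer_iff]
    intro v hv
    have hd : ((k : L) ^ p ^ j) ^ p ^ i ∈ D := pow_mem (by simpa [mem_subgroupOf] using hj) _
    refine commute_of_coprime_of_commutator (ElemAbelian.isPGroup hV.2.1) hi (fun w hw => ?_) hv
    refine (mem_centralizer_iff.1 hd.2 _ ?_).symm
    refine commutator_mem_commutator hw ?_
    rw [hR, map_pResidual_eq]
    exact subset_closure ⟨hd.1, hi⟩
  have := (isPReducedNormal_iff.1 hV).2.2 P' hP'n hPV
  exact ⟨x.2, centralizer_le hUV (this ⟨x, hx, rfl⟩)⟩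

end Cfsg.Agent.Lib.PReduced
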