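import Cfsg.Agent.Lib.PReduced.Basic

/-!
# p-reduced normal subgroups and subnormal subgroups
-/

set_option autoImplicit false

namespace Cfsg.Agent.Lib.PReduced

open Cfsg Subgroup Cfsg.Agent.Lib
open scoped commutatorElement

variable {L : Type*} [Group L] {p : ℕ}

theorem map_centralizer_equiv {M : Type*} [Group M] (e : L ≃* M) (V : Subgroup L) :
    (centralizer (V : Set L)).map e.toMonoidHom =
      centralizer ((V.map e.toMonoidHom : Subgroup M) : Set M) := by
  ext y
  constructor
  · rintro ⟨x, hx, rfl⟩ _ ⟨v, hv, rfl⟩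
    rw [← map_mul, ← map_mul, hx v hv]
  · intro hy
    refine ⟨e.symm y, fun v hv => e.injective ?_, e.apply_symm_apply y⟩
    rw [map_mul, map_mul, e.apply_symm_apply]
    exact hy (e v) ⟨v, hv, rfl⟩

theorem IsPReducedNormal.map_equiv {M : Type*} [Group M] (e : L ≃* M) {V : Subgroup L}
    (h : IsPReducedNormal p V) : IsPReducedNormal p (V.map e.toMonoidHom) := by
  obtain ⟨hn, he, hr⟩ := isPReducedNormal_iff.1 h
  refine isPReducedNormal_iff.2 ⟨hn.map _ e.surjective, ElemAbelian.map he _, fun N hN hm => ?_⟩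
  rw [← map_centralizer_equiv] at hm ⊢
  have h1 : PMod p (N.comap e.toMonoidHom) (centralizer (V : Set L)) := by
    intro g hg
    obtain ⟨k, x, hx, hxg⟩ := hm _ hg
    exact ⟨k, (e.injective (hxg.trans (map_pow e g _).symm)) ▸ hx⟩
  have h2 := hr _ (hN.comap _) h1
  intro y hy
  exact ⟨e.symm y, h2 (show e (e.symm y) ∈ N by simpa using hy), e.apply_symm_apply y⟩

/-- `[V, O^p(H)] = [[V, O^p(K)], O^p(H)]` for `H ≤ K`. -/
theorem commutator_pResidual_eq [Finite L] [Fact p.Prime] {V : Subgroup L}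
    (hV : IsPReducedNormal p V) {H K : Subgroup L} (hHK : H ≤ K) :
    ⁅⁅V, (pResidual p K).map K.subtype⁆, (pResidual p H).map H.subtype⁆ =
      ⁅V, (pResidual p H).map H.subtype⁆ := by
  haveI := hV.1
  haveI : IsMulCommutative V := hV.2.1.1
  set V₁ := ⁅V, (pResidual p K).map K.subtype⁆ with hV₁
  have hV₁V : V₁ ≤ V := commutator_le_left _ _
  refine le_antisymm (commutator_mono hV₁V le_rfl) ?_
  conv_lhs => rw [map_pResidual_eq H]
  have hVn : ∀ A : Subgroup L, A ≤ normalizer (V : Set L) := fun A => by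
    rw [normalizer_eq_top]; exact le_top
  have hKn : closure {x : L | x ∈ K ∧ (orderOf x).Coprime p} ≤ normalizer (V₁ : Set L) := by
    rw [← map_pResidual_eq, hV₁]
    exact Coprime.le_normalizer_commutator (hVn _) Subgroup.le_normalizer
  refine commutator_closure_le _ ?_ ?_
  · intro x hx v hv
    set W := ⁅V₁, (pResidual p H).map H.subtype⁆ with hW
    have hcop : (Nat.card (zpowers x)).Coprime (Nat.card V) := by
      rw [Nat.card_zpowers]
      obtain ⟨n, hn⟩ := ElemAbelian.exists_card_eq_pow hV.2.1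
      rw [hn]
      exact hx.2.pow_right n
    have hmul : ∀ a ∈ V, ∀ b ∈ V, ⁅a * b, x⁆ = ⁅b, x⁆ * ⁅a, x⁆ := by
      intro a ha b hb
      have h1 : ⁅b, x⁆ ∈ V := commutator_le_left V ⊤ (commutator_mem_commutator hb trivial)
      calc ⁅a * b, x⁆ = (a * ⁅b, x⁆) * a⁻¹ * ⁅a, x⁆ := by
            simp [commutatorElement_def, mul_assoc]
        _ = ⁅b, x⁆ * ⁅a, x⁆ := by rw [ElemAbelian.comm hV.2.1 ha h1, mul_inv_cancel_right]
    let S : Subgroup L :=
      { carrier := {a | a ∈ V ∧ ⁅a, x⁆ ∈ W}
        one_mem' := ⟨V.one_mem, by simp [commutatorElement_def]⟩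
        mul_mem' := fun {a b} ha hb => ⟨V.mul_mem ha.1 hb.1, by
          rw [hmul a ha.1 b hb.1]; exact mul_mem hb.2 ha.2⟩
        inv_mem' := fun {a} ha => ⟨V.inv_mem ha.1, by
          have h := hmul a ha.1 a⁻¹ (V.inv_mem ha.1)
          rw [mul_inv_cancel, show ⁅(1 : L), x⁆ = 1 by simp [commutatorElement_def]] at h
          rw [eq_inv_of_mul_eq_one_left h.symm]
          exact inv_mem ha.2⟩ }
    have hle : V ≤ S := by
      conv_lhs => rw [← Coprime.inf_centralizer_sup_commutator_eq (hVn (zpowers x)) hcop]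
      refine sup_le (fun c hc => ⟨hc.1, ?_⟩) fun u hu => ?_
      · have hcx : Commute x c := hc.2 x (mem_zpowers x)
        have : ⁅c, x⁆ = 1 := by
          rw [commutatorElement_def, ← hcx.eq]; group
        rw [this]; exact one_mem _
      · have hu₁ : u ∈ V₁ := by
          revert u
          rw [hV₁, map_pResidual_eq]
          exact fun u hu =>
            commutator_mono le_rfl (zpowers_le.2 (subset_closure (show x ∈ {y : L | y ∈ K ∧ (orderOf y).Coprime p} from ⟨hHK hx.1, hx.2⟩))) hu
        refine ⟨hV₁V hu₁, commutator_mem_commutator hu₁ ?_⟩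
        rw [map_pResidual_eq]
        exact subset_closure hx
    exact (hle hv).2
  · intro x hx
    refine Coprime.le_normalizer_commutator (L := closure {y : L | y ∈ H ∧ (orderOf y).Coprime p})
      ((closure_mono (h := {y : L | y ∈ H ∧ (orderOf y).Coprime p}) (k := {y : L | y ∈ K ∧ (orderOf y).Coprime p}) fun y hy => ⟨hHK hy.1, hy.2⟩).trans hKn) ?_ (subset_closure hx)
    rw [map_pResidual_eq]
    exact Subgroup.le_normalizer

/-- `[V, O^p(K)]` is `p`-reduced normal in a subnormal `K`. -/
theorem isPReducedNormal_commutator [Finite L] [Fact p.Prime] {V : Subgroup L}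
    (hV : IsPReducedNormal p V) {K : Subgroup L} (hK : K.IsSubnormal) :
    ⁅V, (pResidual p K).map K.subtype⁆ ≤ K ∧
      IsPReducedNormal p ((⁅V, (pResidual p K).map K.subtype⁆).subgroupOf K) := by
  induction hK with
  | top => exact isPReducedNormal_commutator_of_normal hV ⊤
  | step H K hHK _ hN ih =>
    obtain ⟨hle, hred⟩ := ih
    haveI := hN
    obtain ⟨hle', hred'⟩ := isPReducedNormal_commutator_of_normal hred (H.subgroupOf K)
    set U' := ⁅(⁅V, (pResidual p K).map K.subtype⁆).subgroupOf K,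
      (pResidual p (H.subgroupOf K)).map (H.subgroupOf K).subtype⁆ with hU'
    have hmap : U'.map K.subtype = ⁅V, (pResidual p H).map H.subtype⁆ := by
      rw [hU', map_commutator, subgroupOf_map_subtype, inf_of_le_left hle,
        ← commutator_pResidual_eq hV hHK, Subgroup.map_map]
      congr 1
      rw [← Transfer.map_pResidual_mulEquiv (subgroupOfEquivOfLe hHK), Subgroup.map_map]
      rfl
    have hle'' : ⁅V, (pResidual p H).map H.subtype⁆ ≤ H := by
      rw [← hmap]
      exact map_le_iff_le_comap.2 hle'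
    refine ⟨hle'', ?_⟩
    convert IsPReducedNormal.map_equiv (subgroupOfEquivOfLe hHK) hred' using 1
    ext x
    rw [mem_subgroupOf, ← hmap]
    constructor
    · rintro ⟨y, hy, hyx⟩
      exact ⟨⟨y, hle' hy⟩, hy, Subtype.ext hyx⟩
    · rintro ⟨y, hy, rfl⟩
      exact ⟨(y : K), hy, rfl⟩

end Cfsg.Agent.Lib.PReduced
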